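import Groth.Prelude.Def_ConstAct
import Mathlib.RingTheory.LocalRing.Module
import Mathlib.RingTheory.Nakayama
import Mathlib.RingTheory.Flat.Basic
import Mathlib.RingTheory.Filtration
import Mathlib.LinearAlgebra.Dimension.Finite
import Mathlib.RingTheory.Finiteness.Basic

/-!
Generation by pseudo-reflections gives flatness over the invariants (local rings, order of the
group invertible).
-/

set_option autoImplicit false

universe u

open IsLocalRing TensorProduct

namespace Groth.Agent.Lib.PseudoRefl.Flat

section Linear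

variable {k : Type u} [Field k] {A : Type u} [CommRing A] [Algebra k A] [IsLocalRing A]
  [IsNoetherianRing A] {G : Type u} [Group G] [Finite G] [MulSemiringAction G A]
  [SMulCommClass G k A]

theorem smul_mem_max (g : G) {a : A} (ha : a ∈ maximalIdeal A) : g • a ∈ maximalIdeal A := by
  rw [mem_maximalIdeal, mem_nonunits_iff] at ha ⊢
  intro h
  exact ha (by simpa using h.map (MulSemiringAction.toRingHom G A g⁻¹))

theorem smul_mem_max_sq (g : G) {a : A} (ha : a ∈ maximalIdeal A ^ 2) :
    g • a ∈ maximalIdeal A ^ 2 := by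
  rw [pow_two] at ha ⊢
  refine Submodule.mul_induction_on ha (fun x hx y hy => ?_) (fun x y hx hy => ?_)
  · rw [smul_mul']; exact Ideal.mul_mem_mul (smul_mem_max g hx) (smul_mem_max g hy)
  · rw [smul_add]; exact Ideal.add_mem _ hx hy

/-- An element moving the ring into a one dimensional piece of `A ⧸ M ^ 2` moves it into a
principal ideal. -/
theorem exists_span (hres : ∀ a : A, ∃ c : k, a - algebraMap k A c ∈ maximalIdeal A)
    (hG : (Nat.card G : k) ≠ 0) (s : G) [FiniteDimensional k (A ⧸ maximalIdeal A ^ 2)] (n : ℕ)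
    (hdim : Module.finrank k (A ⧸ maximalIdeal A ^ 2) ≤ n + 1)
    (hs : n ≤ Module.finrank k (A ⧸ (Ideal.span {x : A | ∃ a, x = s • a - a} ⊔
      maximalIdeal A ^ 2))) :
    ∃ l ∈ maximalIdeal A, ∀ a, s • a - a ∈ Ideal.span {l} := by
  classical
  set M := maximalIdeal A
  set J := Ideal.span {x : A | ∃ a, x = s • a - a} ⊔ M ^ 2
  let π : A →ₗ[k] A ⧸ M ^ 2 := (Ideal.Quotient.mkₐ k (M ^ 2)).toLinearMap
  obtain ⟨σ₀, hσ₀⟩ := π.exists_rightInverse_of_surjective
    (LinearMap.range_eq_top.mpr (Ideal.Quotient.mkₐ_surjective k (M ^ 2)))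
  -- the action on the quotient
  let γ : G → (A →ₗ[k] A) := fun g =>
    { toFun := fun a => g • a, map_add' := smul_add g, map_smul' := fun c a => smul_comm g c a }
  have hker : ∀ (g : G) (a : A), π a = 0 → π (g • a) = 0 := fun g a ha =>
    Ideal.Quotient.eq_zero_iff_mem.mpr (smul_mem_max_sq g (Ideal.Quotient.eq_zero_iff_mem.mp ha))
  let γq : G → (A ⧸ M ^ 2 →ₗ[k] A ⧸ M ^ 2) := fun g => π ∘ₗ γ g ∘ₗ σ₀
  have hγq : ∀ (g : G) (a : A), γq g (π a) = π (g • a) := fun g a => by
    have h0 : π (σ₀ (π a) - a) = 0 := by
      rw [map_sub, show π (σ₀ (π a)) = π a from LinearMap.congr_fun hσ₀ (π a), sub_self]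
    have := hker g _ h0
    rw [smul_sub, map_sub, sub_eq_zero] at this
    exact this
  -- an equivariant section
  let H := Subgroup.zpowers s
  have := Fintype.ofFinite H
  have hH : (Fintype.card H : k) ≠ 0 := fun h => hG (by
    obtain ⟨m, hm⟩ := H.card_subgroup_dvd_card
    rw [hm, Nat.card_eq_fintype_card, Nat.cast_mul, h, zero_mul])
  let σ : A ⧸ M ^ 2 →ₗ[k] A :=
    (Fintype.card H : k)⁻¹ • ∑ h : H, γ (h : G) ∘ₗ σ₀ ∘ₗ γq (h : G)⁻¹
  have hσ : ∀ a, π (σ (π a)) = π a := by
    intro a
    have hterm : ∀ h : H, π (γ (h : G) (σ₀ (γq (h : G)⁻¹ (π a)))) = π a := fun h => by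
      rw [hγq]
      have := hγq (h : G) ((h : G)⁻¹ • a)
      rw [smul_inv_smul] at this
      exact this
    simp only [σ, LinearMap.smul_apply, LinearMap.sum_apply, LinearMap.comp_apply, map_smul,
      map_sum, hterm, Finset.sum_const, Finset.card_univ]
    rw [← Nat.cast_smul_eq_nsmul k, smul_smul, inv_mul_cancel₀ hH, one_smul]
  have hequiv : ∀ a, s • σ (π a) = σ (π (s • a)) := by
    intro a
    simp only [σ, LinearMap.smul_apply, LinearMap.sum_apply, LinearMap.comp_apply, hγq]
    rw [smul_comm, Finset.smul_sum]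
    congr 1
    refine Fintype.sum_equiv (Equiv.mulLeft (⟨s, Subgroup.mem_zpowers s⟩ : H)) _ _ fun h => ?_
    simp only [γ, LinearMap.coe_mk, AddHom.coe_mk, Equiv.coe_mulLeft, Subgroup.coe_mul, mul_inv_rev,
      smul_smul, mul_assoc, inv_mul_cancel, mul_one]
  -- the image of `s - 1`
  have hJle : M ^ 2 ≤ J := le_sup_right
  let fac : (A ⧸ M ^ 2) →ₗ[k] A ⧸ J := (Ideal.Quotient.factorₐ k hJle).toLinearMap
  have hfac : Function.Surjective fac := Ideal.Quotient.factor_surjective hJle
  have hD : Module.finrank k (LinearMap.ker fac) ≤ 1 := by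
    have h1 := LinearMap.finrank_range_add_finrank_ker fac
    rw [LinearMap.range_eq_top.mpr hfac, finrank_top] at h1
    omega
  obtain ⟨d, hd⟩ := (finrank_le_one_iff (K := k) (V := LinearMap.ker fac)).mp hD
  obtain ⟨d₀, hd₀⟩ := Ideal.Quotient.mk_surjective (d : A ⧸ M ^ 2)
  have hJM : J ≤ M := by
    refine sup_le (Ideal.span_le.mpr ?_) (Ideal.pow_le_self two_ne_zero)
    rintro _ ⟨a, rfl⟩
    obtain ⟨c, hc⟩ := hres a
    have hcst : s • algebraMap k A c = algebraMap k A c := by
      rw [Algebra.algebraMap_eq_smul_one, smul_comm s c (1 : A), smul_one]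
    have := M.sub_mem (smul_mem_max s hc) hc
    rw [smul_sub, hcst, sub_sub_sub_cancel_right] at this
    exact this
  refine ⟨σ (π d₀), ?_, fun a => ?_⟩
  · have h1 : d₀ ∈ J := by
      have h2 : fac (d : A ⧸ M ^ 2) = 0 := LinearMap.mem_ker.mp d.2
      rw [← hd₀] at h2
      exact Ideal.Quotient.eq_zero_iff_mem.mp h2
    have h3 : σ (π d₀) - d₀ ∈ M ^ 2 := Ideal.Quotient.mk_eq_mk_iff_sub_mem _ _ |>.mp (hσ d₀)
    simpa using M.add_mem (Ideal.pow_le_self two_ne_zero h3) (hJM h1)
  set l := σ (π d₀)
  have hbase : ∀ a : A, s • σ (π a) - σ (π a) ∈ Ideal.span {l} := by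
    intro a
    have hm : π (s • a - a) ∈ LinearMap.ker fac := by
      rw [LinearMap.mem_ker]
      exact Ideal.Quotient.eq_zero_iff_mem.mpr (Ideal.mem_sup_left (Ideal.subset_span ⟨a, rfl⟩))
    obtain ⟨c, hc⟩ := hd ⟨_, hm⟩
    have hc' : π (s • a - a) = c • π d₀ := by
      rw [show π d₀ = (d : A ⧸ M ^ 2) from hd₀, ← Submodule.coe_smul, hc]
    rw [hequiv, ← map_sub, ← map_sub, hc', map_smul, Algebra.smul_def]
    exact Ideal.mul_mem_left _ _ (Ideal.mem_span_singleton_self l)
  have hN : ∀ (N : ℕ) (a : A), s • a - a ∈ Ideal.span {l} ⊔ M ^ N := by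
    intro N
    induction N with
    | zero => intro a; simp
    | succ N ih =>
      intro a
      have hr : ∀ r ∈ M ^ 2, s • r - r ∈ Ideal.span {l} ⊔ M ^ (N + 1) := by
        intro r hr
        rw [pow_two] at hr
        refine Submodule.mul_induction_on hr (fun x hx y hy => ?_) (fun x y hx hy => ?_)
        · have key : ∀ z ∈ M, ∀ w, z * (s • w - w) ∈ Ideal.span {l} ⊔ M ^ (N + 1) := by
            intro z hz w
            obtain ⟨p, hp, q, hq, hpq⟩ := Submodule.mem_sup.mp (ih w)
            rw [← hpq, mul_add, pow_succ']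
            exact Submodule.add_mem_sup (Ideal.mul_mem_left _ _ hp) (Ideal.mul_mem_mul hz hq)
          rw [smul_mul', show s • x * s • y - x * y = s • x * (s • y - y) + y * (s • x - x) by ring]
          exact add_mem (key _ (smul_mem_max s hx) y) (key _ hy x)
        · rw [smul_add, show s • x + s • y - (x + y) = s • x - x + (s • y - y) by ring]
          exact add_mem hx hy
      have h1 := hr (a - σ (π a)) (Ideal.Quotient.mk_eq_mk_iff_sub_mem _ _ |>.mp (hσ a).symm)
      have h2 := add_mem h1 (Ideal.mem_sup_left (hbase a) :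
        s • σ (π a) - σ (π a) ∈ Ideal.span {l} ⊔ M ^ (N + 1))
      rw [smul_sub] at h2
      convert h2 using 1
      ring
  -- Krull intersection
  by_cases hl : Ideal.span {l} = ⊤
  · rw [hl]; exact Submodule.mem_top
  have : Nontrivial (A ⧸ Ideal.span {l}) := Ideal.Quotient.nontrivial_iff.mpr hl
  have : IsLocalRing (A ⧸ Ideal.span {l}) :=
    .of_surjective' (Ideal.Quotient.mk _) Ideal.Quotient.mk_surjective
  rw [← Ideal.Quotient.eq_zero_iff_mem]
  have hmem : Ideal.Quotient.mk (Ideal.span {l}) (s • a - a) ∈
      ⨅ N : ℕ, (maximalIdeal (A ⧸ Ideal.span {l})) ^ N := by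
    rw [Submodule.mem_iInf]
    intro N
    obtain ⟨p, hp, q, hq, hpq⟩ := Submodule.mem_sup.mp (hN N a)
    rw [← hpq, map_add, Ideal.Quotient.eq_zero_iff_mem.mpr hp, zero_add]
    have hmle : (maximalIdeal A).map (Ideal.Quotient.mk (Ideal.span {l})) ≤
        maximalIdeal (A ⧸ Ideal.span {l}) := by
      refine Ideal.map_le_iff_le_comap.mpr fun x hx => ?_
      rw [Ideal.mem_comap, mem_maximalIdeal, mem_nonunits_iff]
      intro hu
      obtain ⟨y, hy⟩ := hu.exists_right_inv
      obtain ⟨y, rfl⟩ := Ideal.Quotient.mk_surjective y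
      rw [← map_mul, ← map_one (Ideal.Quotient.mk _), Ideal.Quotient.eq] at hy
      have hlM : Ideal.span {l} ≤ maximalIdeal A := IsLocalRing.le_maximalIdeal hl
      have h1 : (1 : A) ∈ maximalIdeal A := by
        have := Ideal.sub_mem _ (Ideal.mul_mem_right y _ hx) (hlM hy)
        simpa using this
      exact (Ideal.ne_top_iff_one _).mp (IsLocalRing.maximalIdeal.isMaximal A).ne_top h1
    refine Ideal.pow_right_mono hmle N ?_
    rw [← Ideal.map_pow]
    exact Ideal.mem_map_of_mem (Ideal.Quotient.mk (Ideal.span {l})) hq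
  rw [Ideal.iInf_pow_eq_bot_of_isLocalRing _ (IsLocalRing.maximalIdeal.isMaximal _).ne_top] at hmem
  exact hmem

end Linear

section Invariants

variable {k : Type u} [Field k] {A : Type u} [CommRing A] [Algebra k A]
  {G : Type u} [Group G] [MulSemiringAction G A] [SMulCommClass G k A]

/-- The action as maps linear over the invariants. -/
noncomputable def act (g : G) : A →ₗ[ConstAct.inv k A G] A where
  toFun a := g • a
  map_add' := smul_add g
  map_smul' r a := by
    show g • ((r : A) * a) = (r : A) * (g • a)
    rw [smul_mul', r.2 g]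

/-- Averaging. -/
noncomputable def reynolds (k : Type u) [Field k] {A : Type u} [CommRing A] [Algebra k A]
    (G : Type u) [Group G] [Fintype G] [MulSemiringAction G A] [SMulCommClass G k A] :
    A →ₗ[ConstAct.inv k A G] ConstAct.inv k A G where
  toFun a := ⟨(Fintype.card G : k)⁻¹ • ∑ g : G, g • a, fun h => by
    rw [smul_comm, Finset.smul_sum]
    congr 1
    exact Fintype.sum_equiv (Equiv.mulLeft h) _ _ fun g => (smul_smul h g a)⟩
  map_add' a b := Subtype.ext (by simp [smul_add, Finset.sum_add_distrib])
  map_smul' r a := Subtype.ext (by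
    show (Fintype.card G : k)⁻¹ • ∑ g : G, g • ((r : A) * a) = (r : A) * _
    simp only [smul_mul', r.2 _]
    rw [← Finset.mul_sum, mul_smul_comm])

variable [IsLocalRing A] [IsNoetherianRing A] [IsDomain A] [Finite G]

theorem isNoetherianRing_inv (hG : (Nat.card G : k) ≠ 0) :
    IsNoetherianRing (ConstAct.inv k A G) := by
  classical
  have := Fintype.ofFinite G
  rw [Nat.card_eq_fintype_card] at hG
  have hρ : ∀ r : ConstAct.inv k A G, reynolds k G (r : A) = r := fun r => Subtype.ext (by
    show (Fintype.card G : k)⁻¹ • ∑ g : G, g • (r : A) = r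
    simp only [r.2 _, Finset.sum_const, Finset.card_univ]
    rw [← Nat.cast_smul_eq_nsmul k, smul_smul, inv_mul_cancel₀ hG, one_smul])
  refine isNoetherian_iff'.mpr (StrictMono.wellFoundedGT
    (f := fun I : Ideal (ConstAct.inv k A G) => I.map (algebraMap (ConstAct.inv k A G) A)) ?_)
  refine Monotone.strictMono_of_injective (fun I J h => Ideal.map_mono h) ?_
  have key : ∀ I : Ideal (ConstAct.inv k A G),
      (I.map (algebraMap (ConstAct.inv k A G) A)).comap (algebraMap _ A) = I := by
    intro I
    refine le_antisymm (fun r hr => ?_) Ideal.le_comap_map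
    have h1 : ∀ x ∈ I.map (algebraMap (ConstAct.inv k A G) A), ∀ a, reynolds k G (x * a) ∈ I := by
      intro x hx
      rw [Ideal.map] at hx
      induction hx using Submodule.span_induction with
      | mem z hz =>
        obtain ⟨i, hi, rfl⟩ := hz
        intro a
        rw [show (algebraMap (ConstAct.inv k A G) A i) * a = i • a from rfl, map_smul, smul_eq_mul]
        exact I.mul_mem_right _ hi
      | zero => intro a; simp
      | add z w _ _ hz hw => intro a; rw [add_mul, map_add]; exact I.add_mem (hz a) (hw a)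
      | smul c z _ hz => intro a; rw [smul_eq_mul, mul_comm c z, mul_assoc]; exact hz _
    have := h1 _ hr 1
    rw [mul_one] at this
    have e : reynolds k G (algebraMap (ConstAct.inv k A G) A r) = r := hρ r
    rwa [e] at this
  intro I J h
  rw [← key I, ← key J]
  exact congrArg (Ideal.comap (algebraMap (ConstAct.inv k A G) A)) h

theorem isLocalHom_inv : IsLocalHom (algebraMap (ConstAct.inv k A G) A) := by
  refine ⟨fun r hr => ?_⟩
  obtain ⟨y, hy⟩ := hr.exists_right_inv
  have hyG : y ∈ ConstAct.inv k A G := fun g => by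
    have h1 : (r : A) * (g • y) = 1 := by
      have := congrArg (g • ·) hy
      simp only [smul_mul', smul_one] at this
      rwa [show g • (algebraMap (ConstAct.inv k A G) A r) = (r : A) from r.2 g] at this
    calc g • y = g • y * (algebraMap (ConstAct.inv k A G) A r * y) := by rw [hy, mul_one]
      _ = ((r : A) * (g • y)) * y := by
        rw [show algebraMap (ConstAct.inv k A G) A r = (r : A) from rfl]; ring
      _ = y := by rw [h1, one_mul]
  exact IsUnit.of_mul_eq_one (b := ⟨y, hyG⟩) (Subtype.ext hy)

theorem isLocalRing_inv : IsLocalRing (ConstAct.inv k A G) :=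
  haveI := isLocalHom_inv (k := k) (A := A) (G := G)
  (algebraMap (ConstAct.inv k A G) A).domain_isLocalRing

theorem flat_inv (hG : (Nat.card G : k) ≠ 0) [Module.Finite (ConstAct.inv k A G) A]
    (S : Set G) (hgen : Subgroup.closure S = ⊤)
    (hS : ∀ s ∈ S, ∃ l ∈ maximalIdeal A, ∀ a, s • a - a ∈ Ideal.span {l}) :
    Module.Flat (ConstAct.inv k A G) A := by
  classical
  have := Fintype.ofFinite G
  set R := ConstAct.inv k A G
  have := isNoetherianRing_inv (A := A) hG
  have := isLocalRing_inv (k := k) (A := A) (G := G)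
  rw [Nat.card_eq_fintype_card] at hG
  let m := maximalIdeal R
  let T : Submodule A (A ⊗[R] m) :=
    LinearMap.ker (TensorProduct.AlgebraTensorModule.map (LinearMap.id : A →ₗ[A] A) m.subtype)
  have hT : ∀ {t}, t ∈ T ↔ LinearMap.lTensor A m.subtype t = 0 := Iff.rfl
  -- linear endomorphisms of `A` preserve the kernel
  have hpres : ∀ (φ : A →ₗ[R] A) t, t ∈ T → LinearMap.rTensor m φ t ∈ T := by
    intro φ t ht
    rw [hT] at ht ⊢
    rw [← LinearMap.comp_apply, LinearMap.lTensor_comp_rTensor, ← LinearMap.rTensor_comp_lTensor,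
      LinearMap.comp_apply, ht, map_zero]
  have hsemi : ∀ (g : G) (a : A) (t : A ⊗[R] m),
      LinearMap.rTensor m (act g) (a • t) = (g • a) • LinearMap.rTensor m (act g) t := by
    intro g a t
    induction t using TensorProduct.induction_on with
    | zero => simp
    | tmul x y =>
      rw [TensorProduct.smul_tmul', LinearMap.rTensor_tmul, LinearMap.rTensor_tmul,
        TensorProduct.smul_tmul']
      congr 1
      exact smul_mul' g a x
    | add x y hx hy => rw [smul_add, map_add, map_add, hx, hy, smul_add]
  let MT : Submodule A (A ⊗[R] m) := maximalIdeal A • T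
  have hgMT : ∀ g : G, ∀ t ∈ MT, LinearMap.rTensor m (act g) t ∈ MT := by
    intro g t ht
    refine Submodule.smul_induction_on ht (fun a ha x hx => ?_) fun x y hx hy => ?_
    · rw [hsemi]
      exact Submodule.smul_mem_smul (smul_mem_max g ha) (hpres _ x hx)
    · rw [map_add]; exact MT.add_mem hx hy
  -- every element of the group acts trivially modulo `MT`
  have hact : ∀ g : G, ∀ t ∈ T, LinearMap.rTensor m (act g) t - t ∈ MT := by
    have hmul : ∀ g h : G, (act (k := k) (A := A) g) ∘ₗ act h = act (g * h) := fun g h =>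
      LinearMap.ext fun a => smul_smul g h a
    have hone : (act (k := k) (A := A) (1 : G)) = LinearMap.id := LinearMap.ext fun a => one_smul G a
    intro g
    have hg : g ∈ Subgroup.closure S := hgen ▸ Subgroup.mem_top g
    induction hg using Subgroup.closure_induction with
    | mem s hs =>
      intro t ht
      obtain ⟨l, hl, hla⟩ := hS s hs
      by_cases hl0 : l = 0
      · have : act (k := k) (A := A) s = LinearMap.id := LinearMap.ext fun a => by
          have := hla a
          rw [hl0, Ideal.span_singleton_zero, Ideal.mem_bot, sub_eq_zero] at this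
          exact this
        simp [this]
      choose Δ hΔ using fun a => Ideal.mem_span_singleton'.mp (hla a)
      let D : A →ₗ[R] A :=
        { toFun := Δ
          map_add' := fun a b => mul_right_cancel₀ hl0 (by
            rw [add_mul, hΔ, hΔ, hΔ, smul_add]; ring)
          map_smul' := fun r a => mul_right_cancel₀ hl0 (by
            show Δ ((r : A) * a) * l = (r : A) * Δ a * l
            rw [hΔ, mul_assoc, hΔ, smul_mul', r.2 s]; ring) }
      have hdec : act s = LinearMap.id + LinearMap.mulLeft R l ∘ₗ D := LinearMap.ext fun a => by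
        show s • a = a + l * Δ a
        rw [mul_comm, hΔ]; ring
      have hmulL : ∀ x : A ⊗[R] m, LinearMap.rTensor m (LinearMap.mulLeft R l) x = l • x := by
        intro x
        induction x using TensorProduct.induction_on with
        | zero => simp
        | tmul a y => rw [LinearMap.rTensor_tmul, TensorProduct.smul_tmul']; rfl
        | add a b ha hb => rw [map_add, ha, hb, smul_add]
      rw [hdec, LinearMap.rTensor_add, LinearMap.add_apply, LinearMap.rTensor_id,
        LinearMap.id_apply, add_sub_cancel_left, LinearMap.rTensor_comp, LinearMap.comp_apply, hmulL]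
      exact Submodule.smul_mem_smul hl (hpres D t ht)
    | one => intro t _; simp [hone]
    | mul x y _ _ hx hy =>
      intro t ht
      rw [← hmul, LinearMap.rTensor_comp, LinearMap.comp_apply]
      have := MT.add_mem (hgMT x _ (hy t ht)) (hx t ht)
      rwa [map_sub, sub_add_sub_cancel] at this
    | inv x _ hx =>
      intro t ht
      have := MT.neg_mem (hx _ (hpres (act x⁻¹) t ht))
      rw [← LinearMap.comp_apply, ← LinearMap.rTensor_comp, hmul, mul_inv_cancel, hone,
        LinearMap.rTensor_id, LinearMap.id_apply, neg_sub] at this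
      exact this
  have hTbot : T = ⊥ := by
    refine Submodule.eq_bot_of_le_smul_of_le_jacobson_bot (maximalIdeal A) T
      (IsNoetherian.noetherian T) (fun t ht => ?_)
      (by rw [IsLocalRing.jacobson_eq_maximalIdeal ⊥ bot_ne_top])
    let ρ := reynolds k (A := A) G
    have hu : LinearMap.rTensor m ρ t = 0 := by
      have h1 : LinearMap.lTensor R m.subtype (LinearMap.rTensor m ρ t) = 0 := by
        rw [← LinearMap.comp_apply, LinearMap.lTensor_comp_rTensor,
          ← LinearMap.rTensor_comp_lTensor, LinearMap.comp_apply, hT.mp ht, map_zero]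
      have hinj : Function.Injective (LinearMap.lTensor R m.subtype) :=
        Module.Flat.lTensor_preserves_injective_linearMap _ Subtype.coe_injective
      exact hinj (by rw [h1, map_zero])
    let c : R := algebraMap k R (Fintype.card G : k)⁻¹
    have hinc : (Algebra.linearMap R A) ∘ₗ ρ = c • ∑ g : G, act g := LinearMap.ext fun a => by
      rw [LinearMap.smul_apply, LinearMap.sum_apply]
      show (Fintype.card G : k)⁻¹ • ∑ g : G, g • a = (c : A) * ∑ g : G, g • a
      rw [Algebra.smul_def]
      rfl
    have h0 : c • ∑ g : G, LinearMap.rTensor m (act g) t = 0 := by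
      have h2 : LinearMap.rTensor m ((Algebra.linearMap R A) ∘ₗ ρ) t = 0 := by
        rw [LinearMap.rTensor_comp, LinearMap.comp_apply, hu, map_zero]
      rw [hinc, LinearMap.rTensor_smul] at h2
      have h3 : LinearMap.rTensor m (∑ g : G, act (k := k) (A := A) g) t =
          ∑ g : G, LinearMap.rTensor m (act g) t := by
        rw [← LinearMap.coe_rTensorHom, map_sum, LinearMap.sum_apply]
      rw [LinearMap.smul_apply, h3] at h2
      exact h2
    have h4 : c • ∑ g : G, (LinearMap.rTensor m (act g) t - t) ∈ MT :=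
      Submodule.smul_of_tower_mem MT c (Submodule.sum_mem MT fun g _ => hact g t ht)
    rw [Finset.sum_sub_distrib, smul_sub, h0, zero_sub, Finset.sum_const, Finset.card_univ,
      ← Nat.cast_smul_eq_nsmul R, smul_smul] at h4
    have hc : c * (Fintype.card G : R) = 1 := by
      rw [← map_natCast (algebraMap k R), ← map_mul, inv_mul_cancel₀ hG, map_one]
    rw [hc, one_smul] at h4
    exact neg_mem_iff.mp h4
  have hinj : Function.Injective (LinearMap.rTensor A m.subtype) := by
    rw [← LinearMap.lTensor_inj_iff_rTensor_inj, injective_iff_map_eq_zero]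
    intro t ht
    have : t ∈ T := hT.mpr ht
    rwa [hTbot, Submodule.mem_bot] at this
  have : Module.FinitePresentation R A := Module.finitePresentation_of_finite R A
  have := Module.free_of_maximalIdeal_rTensor_injective hinj
  infer_instance

end Invariants

end Groth.Agent.Lib.PseudoRefl.Flat
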